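import Cfsg.Agent.H877.SK.Tool
import Cfsg.Agent.H593.IMMonC
import Cfsg.Agent.KFacts.MonsterE

/-!
# S3010 (Sidki pairs): the row of the Monster (helper877)

* `2B` inverts an element of order 51 with a self-centralizing cyclic group;
* `2A` inverts an element `x` of order 3 with `C(2A) ∩ C(x) ≅ Th`.
-/

set_option autoImplicit false
set_option maxRecDepth 100000

open Cfsg
open Subgroup (centralizer center mem_centralizer_singleton_iff)

namespace Cfsg.Agent.H877.SK.M

open Cfsg.Agent.H282.SK Cfsg.Agent.H593.IMMonA Cfsg.Agent.H593.IMMonB Cfsg.Agent.H593.IMMonC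
open Cfsg.Agent.BpSpor.MBigModel
open Cfsg.Agent.MonsterN Cfsg.Agent.MonsterP Cfsg.Agent.MonsterX Cfsg.Agent.MonsterU
open Cfsg.Agent.LThreeMB (XX)

universe u

theorem inner_MG (α : MulAut MG) : ∃ g : MG, α = MulAut.conj g :=
  KFacts.MonsterE.inner_model LitFin.all.hG LitFin.all.hR LitFin.all.hL LitFin.all.hO LitFin.all.hT α

/-- The class `2B`. -/
theorem dead_B : ∃ a : MG, (∃ h, h * zz * h⁻¹ = a) ∧ Dead1 a := by
  have := finite
  obtain ⟨g, w, hw, hg, hc⟩ := g51
  have hodd : Odd (Nat.card (centralizer ({g} : Set MG))) := Odd.of_dvd_nat (by decide) hc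
  have hgo : Odd (orderOf g) := by rw [hg]; decide
  obtain ⟨a, ha, hag⟩ := Cfsg.Agent.H724.IMTool.exists_invol (g := g)
    (by rintro rfl; rw [orderOf_one] at hg; norm_num at hg) (isConj_iff.2 ⟨w, hw⟩) hodd
  have haa : a * a = 1 := by rw [← pow_two, ← ha, pow_orderOf_eq_one]
  have ha1 : a ≠ 1 := by rintro rfl; rw [orderOf_one] at ha; norm_num at ha
  refine ⟨a, ?_, g, hgo, hag, Or.inl hodd⟩
  rcases cl a haa ha1 with h | h
  · exact h
  · exact absurd h (not_conj_six six hgo (by rw [hg]; norm_num) haa hag)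

theorem simple_th : IsSimpleGroup Spor.Th := Cfsg.Agent.Th.Main1700.isTh.1

theorem card_th : Nat.card Spor.Th = 90745943887872000 := Cfsg.Agent.S1700.result.2

/-- The class `2A`. -/
theorem dead_A : ∃ a : MG, (∃ h, h * tt * h⁻¹ = a) ∧ Dead1 a := by
  have := finite
  have hs := simple_th
  obtain ⟨x, n, hx, hn, ⟨e⟩⟩ := exists_th
  have hcen : center (XX x) = ⊥ := by
    have h1 : center Spor.Th = ⊥ := by
      rcases hs.eq_bot_or_eq_top_of_normal (center Spor.Th) inferInstance with h | h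
      · exact h
      · exfalso
        let _ : CommGroup Spor.Th := { (inferInstance : Group Spor.Th) with
          mul_comm := fun a b => (Subgroup.mem_center_iff.1 (h ▸ Subgroup.mem_top a) b).symm }
        have h2 := IsSimpleGroup.prime_card (α := Spor.Th)
        rw [card_th] at h2
        norm_num at h2
    rw [Subgroup.eq_bot_iff_forall]
    intro y hy
    have h2 : e y ∈ center Spor.Th := by
      rw [Subgroup.mem_center_iff] at hy ⊢
      intro g
      have := congrArg e (hy (e.symm g))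
      rwa [map_mul, map_mul, e.apply_symm_apply] at this
    rw [h1, Subgroup.mem_bot] at h2
    exact e.injective (by rw [h2, map_one])
  have hxo : Odd (orderOf x) := by rw [hx]; decide
  obtain ⟨s, hss, hs1, hsx, ⟨f⟩⟩ := exists_split hxo (by rintro rfl; rw [orderOf_one] at hx; norm_num at hx) hn
    (inner_congr e KFacts.Th.Main.inner) hcen
  have hcard : 19 ∣ Nat.card (centralizer ({s} : Set MG)) := by
    have h1 : Nat.card ↥(centralizer ({s} : Set MG) ⊓ centralizer ({x} : Set MG)) = 90745943887872000 := by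
      rw [Nat.card_congr (f.trans e).toEquiv, card_th]
    have h2 := Subgroup.card_dvd_of_le (inf_le_left : centralizer ({s} : Set MG) ⊓ centralizer ({x} : Set MG) ≤ _)
    rw [h1] at h2
    exact dvd_trans (by norm_num) h2
  refine ⟨s, ?_, x, hxo, hsx, Or.inr ⟨Spor.Th, inferInstance, hs, ?_, ⟨f.trans e⟩⟩⟩
  · rcases cl s hss hs1 with ⟨h, hh⟩ | h
    · exfalso
      rw [← hh, card_cent_conj, card_cent_z] at hcard
      norm_num at hcard
    · exact h
  · intro hp
    have : Finite Spor.Th := Nat.finite_of_card_ne_zero (by rw [card_th]; norm_num)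
    obtain ⟨k, hk⟩ := IsPGroup.iff_card.1 hp
    rw [card_th] at hk
    have h19 : 19 ∣ 2 ^ k := by rw [← hk]; norm_num
    exact absurd (Nat.Prime.dvd_of_dvd_pow (by norm_num) h19) (by norm_num)

/-- All involutions of the Monster are dead. -/
theorem dead_MG (a : MG) (ha : a * a = 1) (ha1 : a ≠ 1) : Dead1 a := by
  have key : ∀ {z b : MG}, (∃ h, h * z * h⁻¹ = b) → Dead1 b → (∃ h, h * z * h⁻¹ = a) → Dead1 a := by
    rintro z b ⟨h, rfl⟩ hb ⟨k, rfl⟩
    have := hb.conj (k * h⁻¹)
    have e : k * h⁻¹ * (h * z * h⁻¹) * (k * h⁻¹)⁻¹ = k * z * k⁻¹ := by group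
    rwa [e] at this
  rcases cl a ha ha1 with h | h
  · obtain ⟨b, hb, hd⟩ := dead_B
    exact key hb hd h
  · obtain ⟨b, hb, hd⟩ := dead_A
    exact key hb hd h

/-- **The row `M`.** -/
theorem dead : DeadS.{u} (fun K _ => Cfsg.Spor.IsoM K) := by
  intro G _ _ V K h he
  obtain ⟨e⟩ := he
  obtain ⟨f⟩ := Cfsg.Agent.MonsterP.Equiv.equiv
  exact deadS_of inner_MG dead_MG V K h ⟨e.trans f⟩

end Cfsg.Agent.H877.SK.M
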